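import Groth.Agent.Ega4B.FlatFibReduced
import Groth.Agent.CurvesC.RegNormal
import Groth.Agent.S0543
import Groth.Agent.S0598
import Groth.Agent.S0599
import Mathlib.RingTheory.AdicCompletion.LocalRing
import Mathlib.RingTheory.AdicCompletion.AsTensorProduct
import Mathlib.RingTheory.LocalProperties.Reduced
import Mathlib.RingTheory.Ideal.MinimalPrime.Noetherian

/-!
# The completion of a local ring of a reduced G-ring is reduced

* `isReduced_cpl`: `G` a reduced G-ring, `𝔵` a prime: the completion of `G_𝔵` is reduced;
* `exists_completion`: the same for `G` of finite type over a complete Noetherian local ring, packaged as the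
  existence of a flat local homomorphism to a reduced complete Noetherian local ring.
-/

set_option autoImplicit false
universe u

namespace K788.RedCpl

open Groth.Agent
open scoped TensorProduct

theorem isReduced_of_isRegularRing (R : Type u) [CommRing R] [IsRegularRing R] : IsReduced R := by
  apply isReduced_ofLocalizationMaximal
  intro J hJ
  have : IsDomain (Localization.AtPrime J) := CurvesC.RegNormal.isDomain _
  infer_instance

/-- A geometrically regular algebra is reduced. -/
theorem isReduced_of_isGeometricallyRegular (k S : Type u) [Field k] [CommRing S] [Algebra k S]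
    (h : CAlg.IsGeometricallyRegular k S) : IsReduced S := by
  have h1 : IsRegularRing (k ⊗[k] S) := h k (Module.Finite.self k)
  have h2 := isReduced_of_isRegularRing (k ⊗[k] S)
  exact isReduced_of_injective (Algebra.TensorProduct.lid k S).symm (Algebra.TensorProduct.lid k S).symm.injective

/-- A regular homomorphism from a reduced Noetherian ring has a reduced target. -/
theorem isReduced_of_isRegularHom (R S : Type u) [CommRing R] [IsNoetherianRing R] [IsReduced R] [CommRing S]
    [Algebra R S] (h : CAlg.IsRegularHom R S) : IsReduced S := by
  have := h.1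
  refine Ega4B.FlatFibReduced.isReduced_of_flat_of_fiber R S (minimalPrimes.finite_of_isNoetherianRing R)
    fun p hp _ => ?_
  exact isReduced_of_isGeometricallyRegular _ _ (h.2 p).2

theorem isReduced_cpl (G : Type u) [CommRing G] (hG : CAlg.IsGRing G) [IsReduced G] (𝔵 : Ideal G) [𝔵.IsPrime] :
    IsReduced (AdicCompletion (IsLocalRing.maximalIdeal (Localization.AtPrime 𝔵)) (Localization.AtPrime 𝔵)) := by
  have := hG.1
  have : IsReduced (Localization.AtPrime 𝔵) := isReduced_localizationPreserves 𝔵.primeCompl _ ‹_›
  exact isReduced_of_isRegularHom _ _ (hG.2 𝔵)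

theorem exists_completion (B : Type u) [CommRing B] [IsLocalRing B] [IsNoetherianRing B]
    [IsAdicComplete (IsLocalRing.maximalIdeal B) B] (G : Type u) [CommRing G] [Algebra B G] [Algebra.FiniteType B G]
    [_root_.IsReduced G] (𝔵 : Ideal G) [𝔵.IsPrime] :
    ∃ (C : Type u) (_ : CommRing C) (_ : IsLocalRing C) (_ : IsNoetherianRing C) (_ : Algebra (Localization.AtPrime 𝔵) C)
      (_ : IsLocalHom (algebraMap (Localization.AtPrime 𝔵) C)),
      IsAdicComplete (IsLocalRing.maximalIdeal C) C ∧ Module.Flat (Localization.AtPrime 𝔵) C ∧ _root_.IsReduced C := by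
  have hG : CAlg.IsGRing G := S0599.result B (S0598.result B) G
  have := hG.1
  have : IsNoetherianRing (AdicCompletion (IsLocalRing.maximalIdeal (Localization.AtPrime 𝔵)) (Localization.AtPrime 𝔵)) :=
    S0543.result _ _
  have h := isReduced_cpl G hG 𝔵
  exact ⟨AdicCompletion (IsLocalRing.maximalIdeal (Localization.AtPrime 𝔵)) (Localization.AtPrime 𝔵), inferInstance,
    inferInstance, inferInstance, inferInstance, inferInstance, inferInstance, (hG.2 𝔵).1, h⟩

end K788.RedCpl
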